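import Groth.Agent.H23.Seesaw
import Groth.Agent.GeomField.GlobalFunctions
import Groth.Agent.CurveBC.Coh
import Groth.Prelude.Def_ModelsG
import Mathlib.AlgebraicGeometry.Morphisms.UniversallyOpen

/-!
# The dimension of the global functions of the fibres: base change and semicontinuity over a Noetherian base
-/

set_option autoImplicit false
set_option linter.style.haveILetI false
set_option backward.isDefEq.respectTransparency false
set_option backward.isDefEq.respectTransparency.types false

universe u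

open CategoryTheory CategoryTheory.Limits AlgebraicGeometry TopologicalSpace

namespace Groth.Agent.CStk17.H0Open

open Groth.Agent.H23

/-- `dim H⁰(X, O)` over a field. -/
noncomputable abbrev h0 {k : Type u} [Field k] {X : Scheme.{u}} (p : X ⟶ Spec (CommRingCat.of k)) : ℕ :=
  Models.hRank k X p (Coh.structureModule X) 0

theorem h0_bc {k K : Type u} [Field k] [Field K] (φ : k →+* K) {X X' : Scheme.{u}}
    (p : X ⟶ Spec (CommRingCat.of k)) [IsProper p] (p' : X' ⟶ Spec (CommRingCat.of K)) (g : X' ⟶ X)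
    (hpb : IsPullback g p' p (Spec.map (CommRingCat.ofHom φ))) : h0 p' = h0 p := by
  letI := φ.toAlgebra
  letI : X.Over (Spec (CommRingCat.of k)) := ⟨p⟩
  letI : X'.Over (Spec (CommRingCat.of K)) := ⟨p'⟩
  haveI : CompactSpace X := QuasiCompact.compactSpace_of_compactSpace p
  haveI : QuasiSeparatedSpace X := quasiSeparatedSpace_of_quasiSeparated p
  exact CurveBC.finrank_hh_unit k K g hpb 0

theorem h0_eq_fibre {K : Type u} [Field K] {X S : Scheme.{u}} (f : X ⟶ S) [IsProper f]
    (t : Spec (CommRingCat.of K) ⟶ S) (s : S) (ht : t (IsLocalRing.closedPoint K) = s) {X' : Scheme.{u}}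
    (q : X' ⟶ X) (p' : X' ⟶ Spec (CommRingCat.of K)) (hpb : IsPullback q p' f t) :
    h0 p' = Models.hRank ↥(S.residueField s) (f.fiber s) (f.fiberToSpecResidueField s)
      (Coh.structureModule (f.fiber s)) 0 := by
  subst ht
  let φ := Scheme.descResidueField (Scheme.stalkClosedPointTo t)
  have hfac : Spec.map φ ≫ S.fromSpecResidueField (t (IsLocalRing.closedPoint K)) = t :=
    Scheme.descResidueField_stalkClosedPointTo_fromSpecResidueField K S t
  let g : X' ⟶ f.fiber (t (IsLocalRing.closedPoint K)) :=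
    pullback.lift q (p' ≫ Spec.map φ) (by rw [Category.assoc, hfac, hpb.w])
  haveI : IsProper (f.fiberToSpecResidueField (t (IsLocalRing.closedPoint K))) :=
    MorphismProperty.pullback_snd _ _ (inferInstance : IsProper f)
  refine h0_bc φ.hom (f.fiberToSpecResidueField (t (IsLocalRing.closedPoint K))) p' g ?_
  refine IsPullback.of_right ?_ (pullback.lift_snd _ _ _) (IsPullback.of_hasPullback f _)
  rw [pullback.lift_fst, show CommRingCat.ofHom φ.hom = φ from rfl, hfac]
  exact hpb

section Noeth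

variable {A : Type u} [CommRing A] [IsNoetherianRing A] {X : Scheme.{u}} (π : X ⟶ Spec (CommRingCat.of A))

theorem exists_rank [IsProper π] [Flat π] :
    ∃ (Q : ModuleCat.{u} A) (_ : Module.Finite A Q), ∀ x : PrimeSpectrum A,
      h0 (pullback.snd π (Seesaw.specAlg A x.asIdeal.ResidueField)) = FlatCxLib.fibreRank Q x := by
  letI : X.Over (Spec (CommRingCat.of A)) := ⟨π⟩
  haveI : IsProper (X ↘ Spec (CommRingCat.of A)) := ‹IsProper π›
  haveI : Flat (X ↘ Spec (CommRingCat.of A)) := ‹Flat π›
  obtain ⟨Q, hQfin, e, hQ⟩ := Seesaw.exists_rep (A := A) (Coh.structureModule X) InvX.isInvertible_structureModule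
  refine ⟨Q, hQfin, fun x => ?_⟩
  let k := x.asIdeal.ResidueField
  let Z := pullback π (Seesaw.specAlg A k)
  let p : Z ⟶ Spec (CommRingCat.of k) := pullback.snd π (Seesaw.specAlg A k)
  let q : Z ⟶ X := pullback.fst π (Seesaw.specAlg A k)
  obtain ⟨eB, he1, -⟩ := hQ k _ _ _ (IsPullback.of_hasPullback π _)
  letI : Z.Over (Spec (CommRingCat.of k)) := ⟨p⟩
  letI := GeomField.globalAlgebra k Z
  let u := CurveBC.unitIso q
  let c : Γ((Scheme.Modules.pullback q).obj (Coh.structureModule X), ⊤) ≃+ Γ(Z, ⊤) :=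
    { toFun := (Scheme.Modules.Hom.app u.hom ⊤).hom
      invFun := (Scheme.Modules.Hom.app u.inv ⊤).hom
      left_inv := fun m => by
        rw [← CategoryTheory.comp_apply, ← Scheme.Modules.Hom.comp_app, Iso.hom_inv_id]; rfl
      right_inv := fun m => by
        rw [← CategoryTheory.comp_apply, ← Scheme.Modules.Hom.comp_app, Iso.inv_hom_id]; rfl
      map_add' := fun a b => map_add _ a b }
  let L : (Q →ₗ[A] k) ≃ₗ[k] Γ(Z, ⊤) :=
    { eB.trans c with
      map_smul' := fun b g => by
        show c (eB (b • g)) = b • c (eB g)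
        rw [show b • g = LinearMap.mulLeft A b ∘ₗ g from LinearMap.ext fun m => rfl, he1 b g]
        exact Scheme.Modules.Hom.app_smul u.hom (U := ⊤) _ (eB g) }
  show Module.finrank k (Coh.HH Z (Coh.structureModule Z) 0) = _
  rw [GeomField.finrank_HH_zero, ← L.finrank_eq, (SeesawMod.dualEquiv k).finrank_eq, Subspace.dual_finrank_eq]
  rfl

theorem h0_pos_iff {k : Type u} [Field k] {Z : Scheme.{u}} (p : Z ⟶ Spec (CommRingCat.of k)) [IsProper p] :
    h0 p ≠ 0 ↔ Nonempty Z := by
  letI : Z.Over (Spec (CommRingCat.of k)) := ⟨p⟩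
  letI := GeomField.globalAlgebra k Z
  show Module.finrank k (Coh.HH Z (Coh.structureModule Z) 0) ≠ 0 ↔ _
  rw [GeomField.finrank_HH_zero]
  refine ⟨fun h => ?_, fun h => ?_⟩
  · by_contra hne
    rw [not_nonempty_iff] at hne
    haveI : Subsingleton Γ(Z, ⊤) := (CommRingCat.subsingleton_of_isTerminal
      (Z.sheaf.isTerminalOfEqEmpty (Subsingleton.elim (⊤ : Z.Opens) ⊥)))
    exact h Module.finrank_zero_of_subsingleton
  · haveI : Nonempty (⊤ : Z.Opens) := ⟨⟨h.some, trivial⟩⟩
    haveI : Nontrivial Γ(Z, ⊤) := inferInstance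
    haveI : IsProper (Z ↘ Spec (CommRingCat.of k)) := ‹IsProper p›
    haveI : IsLocallyNoetherian Z := LocallyOfFiniteType.isLocallyNoetherian p
    haveI := CurveCohLib.finite_HH (k := k)
      (CurveDeg.isCoh_of_isInvertible (X := Z) InvX.isInvertible_structureModule) 0
    haveI : Nontrivial ((Coh.toAb (Coh.structureModule Z)).obj.obj (Opposite.op ⊤)) := ‹Nontrivial Γ(Z, ⊤)›
    haveI : Nontrivial (Coh.HH Z (Coh.structureModule Z) 0) :=
      (Sheaf.H.equiv₀ (Coh.toAb (Coh.structureModule Z)) isTerminalTop :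
        Coh.HH Z (Coh.structureModule Z) 0 ≃+ Γ(Z, ⊤)).toEquiv.nontrivial
    rw [← GeomField.finrank_HH_zero]
    exact (Module.finrank_pos).ne'

theorem isOpen_h0_eq_one [IsProper π] [Flat π] :
    IsOpen {x : PrimeSpectrum A | h0 (pullback.snd π (Seesaw.specAlg A x.asIdeal.ResidueField)) = 1} := by
  haveI : LocallyOfFinitePresentation π :=
    haveI : IsLocallyNoetherian (Spec (CommRingCat.of A)) := inferInstance
    inferInstance
  haveI : UniversallyOpen π := UniversallyOpen.of_flat π
  obtain ⟨Q, hQfin, hQ⟩ := exists_rank π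
  have hr : IsOpen (Set.range π) := by
    rw [← Set.image_univ]
    exact π.isOpenMap _ isOpen_univ
  convert ((FlatCxLib.upperSemicontinuous_fibreRank (A := A) Q).isOpen_preimage 2).inter hr using 1
  ext x
  haveI : IsProper (pullback.snd π (Seesaw.specAlg A x.asIdeal.ResidueField)) :=
    MorphismProperty.pullback_snd _ _ ‹IsProper π›
  have hne : Nonempty ↥(pullback π (Seesaw.specAlg A x.asIdeal.ResidueField)) ↔ x ∈ Set.range π := by
    refine ⟨fun ⟨z⟩ => ⟨pullback.fst π _ z, ?_⟩, fun ⟨y, hy⟩ => ?_⟩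
    · rw [← Scheme.Hom.comp_apply, pullback.condition, Scheme.Hom.comp_apply]
      exact Seesaw.range_specAlg x _
    · letI : X.Over (Spec (CommRingCat.of A)) := ⟨π⟩
      obtain ⟨z, -⟩ := Seesaw.exists_fibre_point (A := A) (X := X) x y hy
      exact ⟨z⟩
  have hp := h0_pos_iff (pullback.snd π (Seesaw.specAlg A x.asIdeal.ResidueField))
  rw [hne, hQ x] at hp
  show h0 (pullback.snd π (Seesaw.specAlg A x.asIdeal.ResidueField)) = 1 ↔
    FlatCxLib.fibreRank Q x < 2 ∧ x ∈ Set.range π
  rw [← hp, hQ x]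
  omega

end Noeth

end Groth.Agent.CStk17.H0Open
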