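import Groth.Agent.CStk17.H0Open.Basic
import Groth.Agent.LimSm.Model
import Groth.Agent.LimSm.Flat
import Groth.Agent.MorLib.ProperFT

/-!
# Openness of `h⁰ = 1` for flat proper morphisms of finite presentation over any base
-/

set_option autoImplicit false
set_option linter.style.haveILetI false
set_option backward.isDefEq.respectTransparency false
set_option backward.isDefEq.respectTransparency.types false

universe u

open CategoryTheory CategoryTheory.Limits AlgebraicGeometry TopologicalSpace

namespace Groth.Agent.CStk17.H0Open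

open Groth.Agent.H23

theorem h0_eq_one_iff_fibre {A : Type u} [CommRing A] {X : Scheme.{u}} (π : X ⟶ Spec (CommRingCat.of A)) [IsProper π]
    (x : PrimeSpectrum A) :
    h0 (pullback.snd π (Seesaw.specAlg A x.asIdeal.ResidueField)) =
      Models.hRank ↥((Spec (CommRingCat.of A)).residueField x) (π.fiber x) (π.fiberToSpecResidueField x)
        (Coh.structureModule (π.fiber x)) 0 :=
  h0_eq_fibre π _ x (Seesaw.range_specAlg x _) _ _ (IsPullback.of_hasPullback π _)

theorem isOpen_setOf_h0_eq_one {X S : Scheme.{u}} (f : X ⟶ S) [Flat f] [IsProper f] [LocallyOfFinitePresentation f] :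
    IsOpen {s : S | Models.hRank ↥(S.residueField s) (f.fiber s) (f.fiberToSpecResidueField s)
      (Coh.structureModule (f.fiber s)) 0 = 1} := by
  rw [isOpen_iff_mem_nhds]
  intro s hs
  obtain ⟨A, _, _, j, _, a, rfl⟩ : ∃ (A : Type u) (_ : CommRing A) (_ : True) (j : Spec (CommRingCat.of A) ⟶ S)
      (_ : IsOpenImmersion j) (a : ↥(Spec (CommRingCat.of A))), j a = s := by
    obtain ⟨_, ⟨U, hU, rfl⟩, hsU, -⟩ := S.isBasis_affineOpens.exists_subset_of_mem_open (Set.mem_univ s) isOpen_univ
    refine ⟨Γ(S, U), inferInstance, trivial, hU.fromSpec, inferInstance, hU.primeIdealOf ⟨s, hsU⟩, ?_⟩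
    exact hU.fromSpec_primeIdealOf ⟨s, hsU⟩
  let fA := pullback.snd f j
  haveI : Flat fA := MorphismProperty.pullback_snd _ _ ‹Flat f›
  haveI : IsProper fA := MorphismProperty.pullback_snd _ _ ‹IsProper f›
  haveI : LocallyOfFinitePresentation fA := MorphismProperty.pullback_snd _ _ ‹LocallyOfFinitePresentation f›
  obtain ⟨A₀, hA₀, X₀, f₀, g, h1, h2, h3, -, -, h6⟩ := Groth.Agent.LimSm.exists_model_over_fg
    (P := @Flat) (P' := @IsProper) (Q := @LocallyOfFinitePresentation) (Q' := @LocallyOfFiniteType)
    Groth.Agent.LimSm.core_flat Groth.Agent.MorLib.Ultra.core_isProper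
    (fun _ h => h) (fun _ h => haveI := h; inferInstance) A fA inferInstance inferInstance
  haveI := h1
  haveI := h2
  haveI : Algebra.FiniteType ℤ A₀ := (Subalgebra.fg_iff_finiteType A₀).mp hA₀
  haveI : IsNoetherianRing A₀ := Algebra.FiniteType.isNoetherianRing ℤ A₀
  let b : Spec (CommRingCat.of A) ⟶ Spec (CommRingCat.of A₀) :=
    Spec.map (CommRingCat.ofHom (algebraMap A₀ A))
  -- the fibre over a point of the chart seen in the model
  have key : ∀ x : PrimeSpectrum A,
      Models.hRank ↥(S.residueField (j x)) (f.fiber (j x)) (f.fiberToSpecResidueField (j x))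
        (Coh.structureModule (f.fiber (j x))) 0 =
      h0 (pullback.snd f₀ (Seesaw.specAlg A₀ (PrimeSpectrum.comap (algebraMap A₀ A) x).asIdeal.ResidueField)) := by
    intro x
    let t := Seesaw.specAlg A x.asIdeal.ResidueField
    have hS := h0_eq_fibre f (t ≫ j) (j x) (by rw [Scheme.Hom.comp_apply, Seesaw.range_specAlg]) _ _
      ((IsPullback.of_hasPullback fA t).paste_horiz (IsPullback.of_hasPullback f j))
    have h0' := h0_eq_fibre f₀ (t ≫ b) (PrimeSpectrum.comap (algebraMap A₀ A) x)
      (by rw [Scheme.Hom.comp_apply, Seesaw.range_specAlg]; rfl) _ _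
      ((IsPullback.of_hasPullback fA t).paste_horiz h6)
    rw [← hS, h0', h0_eq_one_iff_fibre f₀]
  have ho := (isOpen_h0_eq_one f₀).preimage (PrimeSpectrum.continuous_comap (algebraMap A₀ A))
  refine Filter.mem_of_superset ((j.isOpenEmbedding.isOpenMap _ ho).mem_nhds ⟨a, ?_, rfl⟩) ?_
  · exact (key a).symm.trans hs
  · rintro _ ⟨z, hz, rfl⟩
    exact (key z).trans hz

end Groth.Agent.CStk17.H0Open
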